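import Cfsg.Agent.H393.Str.Link
import Cfsg.Agent.KFacts.He.Lv

/-!
# The Held group has no strongly `p`-embedded subgroup for `p = 3, 5` (helper393)
-/

set_option autoImplicit false
set_option maxRecDepth 100000

namespace Cfsg.Agent.H393.Str.He

open Cfsg Subgroup Cfsg.Agent.H998.StrP
open Cfsg.Spor.He (Gen)
open Cfsg.Agent.SporadicB.HePerm Cfsg.Agent.FixBN.HeStab Cfsg.Agent.KFacts.He.Lv

instance simple_he : IsSimpleGroup Cfsg.Spor.He := Cfsg.Agent.S1695.result.1

theorem finite_he : Finite Cfsg.Spor.He :=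
  Nat.finite_of_card_ne_zero (by rw [Cfsg.Agent.S1695.result.2]; norm_num)

theorem gn_mul_self (m : Gen) : gn m * gn m = 1 := by
  have h : chkB [m, m] [] = true := by cases m <;> decide +kernel
  have h1 := eq_of_chkB h
  rw [wd_cons, wd_one, wd_nil] at h1
  exact h1

theorem wd_mul_reverse (w : List Gen) : wd w * wd w.reverse = 1 := by
  induction w with
  | nil => rw [List.reverse_nil, wd_nil, mul_one]
  | cons m w ih =>
    rw [List.reverse_cons, wd_append, wd_one, wd_cons, mul_assoc, ← mul_assoc (wd w), ih, one_mul, gn_mul_self]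

theorem wd_reverse (w : List Gen) : wd w.reverse = (wd w)⁻¹ := eq_inv_of_mul_eq_one_right (wd_mul_reverse w)

theorem chkB_of_eq {v w : List Gen} (h : wd v = wd w) : chkB v w = true := by
  have key : ∀ i : Fin 2058, Nat.beq (act v i) (act w i) = true := by
    intro i
    rw [act_eq, act_eq, h]
    exact Nat.beq_refl _
  unfold chkB
  rw [Bool.and_eq_true, Bool.and_eq_true, Bool.and_eq_true]
  exact ⟨⟨key 0, key 1⟩, key 32, key 8⟩

/-- power word -/
def pw (w : List Gen) (k : ℕ) : List Gen := Nat.rec [] (fun _ ih => w ++ ih) k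

theorem wd_pw (w : List Gen) (k : ℕ) : wd (pw w k) = wd w ^ k := by
  induction k with
  | zero => rw [pow_zero]; rfl
  | succ k ih =>
    show wd (w ++ pw w k) = _
    rw [wd_append, ih, pow_succ']

/-- `w` has order `p` -/
def ckO (p : ℕ) (w : List Gen) : Bool := and (chkB (pw w p) []) (not (chkB w []))

theorem orderOf_of_ckO {p : ℕ} (hp : p.Prime) {w : List Gen} (h : ckO p w = true) : orderOf (wd w) = p := by
  have : Fact p.Prime := ⟨hp⟩
  unfold ckO at h
  rw [Bool.and_eq_true, Bool.not_eq_true'] at h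
  refine orderOf_eq_prime ?_ ?_
  · rw [← wd_pw, eq_of_chkB h.1, wd_nil]
  · intro h1
    have h2 := chkB_of_eq (v := w) (w := []) (by rw [h1, wd_nil])
    rw [h.2] at h2
    exact Bool.noConfusion h2

/-- `v` and `w` commute -/
def ckC (v w : List Gen) : Bool := chkB (v ++ w) (w ++ v)

theorem commute_of_ckC {v w : List Gen} (h : ckC v w = true) : Commute (wd v) (wd w) := by
  have h1 := eq_of_chkB h
  rw [wd_append, wd_append] at h1
  exact h1

/-- a linking step -/
def ckS (p : ℕ) (x : List Gen) (t : List Gen × List Gen) : Bool :=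
  and (ckO p t.2) (and (ckC x t.2) (ckC t.2 (t.1 ++ (x ++ t.1.reverse))))

/-- a word in the elements of the table -/
def fl (T : List (List Gen × List Gen)) : List (ℕ × Bool) → List Gen
  | [] => []
  | (i, true) :: l => (T.getD i ([], [])).1 ++ fl T l
  | (i, false) :: l => (T.getD i ([], [])).1.reverse ++ fl T l

theorem fl_mem {K : Subgroup Cfsg.Spor.He} {T : List (List Gen × List Gen)} (hT : ∀ t ∈ T, wd t.1 ∈ K)
    (l : List (ℕ × Bool)) : wd (fl T l) ∈ K := by
  have h0 : ∀ i, wd (T.getD i ([], [])).1 ∈ K := by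
    intro i
    rw [List.getD_eq_getElem?_getD]
    rcases lt_or_ge i T.length with h | h
    · rw [List.getElem?_eq_getElem h, Option.getD_some]
      exact hT _ (List.getElem_mem h)
    · rw [List.getElem?_eq_none h, Option.getD_none]
      exact K.one_mem
  induction l with
  | nil => exact K.one_mem
  | cons a l ih =>
    obtain ⟨i, b⟩ := a
    cases b
    · show wd ((T.getD i ([], [])).1.reverse ++ fl T l) ∈ K
      rw [wd_append, wd_reverse]
      exact K.mul_mem (K.inv_mem (h0 i)) ih
    · show wd ((T.getD i ([], [])).1 ++ fl T l) ∈ K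
      rw [wd_append]
      exact K.mul_mem (h0 i) ih

theorem noSP_of_ck {p : ℕ} [hp : Fact p.Prime] (X : List Gen) (T : List (List Gen × List Gen))
    (L : Gen → List (ℕ × Bool)) (hX : ckO p X = true) (hT : ∀ t ∈ T, ckS p X t = true)
    (hL : ∀ m, chkB (fl T (L m)) [m] = true) : NoSP p Cfsg.Spor.He := by
  have := finite_he
  refine noSP_of_two (orderOf_of_ckO hp.out hX) (S := {g | ∃ t ∈ T, g = wd t.1}) ?_ ?_
  · rintro g ⟨t, ht, rfl⟩
    have h := hT t ht
    unfold ckS at h
    rw [Bool.and_eq_true, Bool.and_eq_true] at h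
    refine ⟨wd t.2, orderOf_of_ckO hp.out h.1, commute_of_ckC h.2.1, ?_⟩
    have h1 := commute_of_ckC h.2.2
    rw [wd_append, wd_append, wd_reverse, ← mul_assoc] at h1
    exact h1
  · rw [eq_top_iff, ← PresentedGroup.closure_range_of, closure_le]
    rintro g ⟨m, rfl⟩
    have h1 := eq_of_chkB (hL m)
    rw [wd_one] at h1
    have h2 : wd (fl T (L m)) ∈ closure {g | ∃ t ∈ T, g = wd t.1} :=
      fl_mem (K := closure {g | ∃ t ∈ T, g = wd t.1})
        (fun t ht => Subgroup.subset_closure (show wd t.1 ∈ {g | ∃ t ∈ T, g = wd t.1} from ⟨t, ht, rfl⟩)) _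
    rw [h1] at h2
    exact h2

/-- the base element of order `3` -/
def X3 : List Gen := [.b, .c]

/-- the linking elements, `p = 3` -/
def T3 : List (List Gen × List Gen) :=
  [([.b], X3),
   ([.c], X3),
   ([.e], X3),
   ([.f], X3),
   ([.g], X3),
   ([.a, .b, .d, .c, .b, .d, .c, .b, .d, .c, .b, .a, .d], X3)]

/-- the generators as words in the linking elements -/
def L3 : Gen → List (ℕ × Bool)
  | .a => [(4, true), (0, true), (5, true), (3, true), (4, true), (5, true), (3, true), (4, true), (5, true), (4, true), (3, true), (5, true), (4, true), (3, false), (5, false), (0, false)]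
  | .b => [(0, true)]
  | .c => [(1, true)]
  | .d => [(5, true), (3, true), (0, true), (5, true), (3, true), (1, true), (5, true), (3, true), (4, true), (5, true), (3, true), (1, true), (5, true), (3, false), (4, false), (5, false), (0, false), (4, false), (5, false), (2, false), (3, false)]
  | .e => [(2, true)]
  | .f => [(3, true)]
  | .g => [(4, true)]

theorem noSP_he_three : NoSP 3 Cfsg.Spor.He := by
  have : Fact (Nat.Prime 3) := ⟨by norm_num⟩
  refine noSP_of_ck X3 T3 L3 (by decide +kernel) ?_ ?_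
  · have h : (T3.all fun t => ckS 3 X3 t) = true := by decide +kernel
    exact List.all_eq_true.1 h
  · intro m
    cases m <;> decide +kernel

/-- the base element of order `5` -/
def X5 : List Gen := [.d, .c, .e]

/-- an element commuting with `X5` -/
def Y5_4 : List Gen := [.g, .f, .b, .c, .d, .g, .f, .c, .b, .f, .d, .c, .d, .e, .d, .c, .f, .d, .c, .e, .d, .f, .d]

/-- an element commuting with `X5` -/
def Y5_21 : List Gen := [.c, .d, .c, .d, .e, .b, .a, .b, .f, .d, .c, .d, .e, .d, .c, .f, .d, .c, .e, .d, .f, .b, .c, .f, .g, .d, .c, .b, .f, .g, .b, .a, .b, .e, .d, .c, .d, .c, .c, .e]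

/-- an element commuting with `X5` -/
def Y5_25 : List Gen := [.b, .c, .f, .g, .d, .c, .b, .f, .g, .f, .d, .c, .d, .e, .d, .c, .f, .d, .c, .e, .d, .f, .b, .c, .f, .g, .d, .c, .b, .f, .g, .b, .a, .b, .e, .d, .c, .d, .c, .b, .a, .b, .e, .d, .c, .d, .c]

/-- the linking elements, `p = 5` -/
def T5 : List (List Gen × List Gen) :=
  [([.a], X5),
   ([.d], X5),
   ([.c, .e], X5),
   ([.f, .d, .c, .d, .e, .d, .e, .d, .c, .d, .e, .d, .f], Y5_21),
   ([.f, .d, .c, .e, .d, .c, .b, .c, .d, .c, .e, .d, .g], Y5_25),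
   ([.f, .d, .c, .e, .d, .c, .b, .c, .d, .g, .d, .c, .b], Y5_4),
   ([.f, .d, .e, .d, .c, .b, .a, .b, .a, .c, .d, .e, .f], Y5_21)]

/-- the generators as words in the linking elements -/
def L5 : Gen → List (ℕ × Bool)
  | .a => [(0, true)]
  | .b => [(4, false), (0, true), (4, true), (1, true), (2, true), (1, true), (3, true), (2, true), (4, false), (5, true), (0, false), (1, false)]
  | .c => [(3, true), (2, true)]
  | .d => [(1, true)]
  | .e => [(3, true)]
  | .f => [(1, true), (2, true), (0, true), (5, false), (1, true), (0, true), (5, true), (2, false), (1, false)]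
  | .g => [(0, true), (5, false), (0, true), (4, true), (6, true), (1, false), (4, false), (0, false), (5, true)]

theorem noSP_he_five : NoSP 5 Cfsg.Spor.He := by
  have : Fact (Nat.Prime 5) := ⟨by norm_num⟩
  refine noSP_of_ck X5 T5 L5 (by decide +kernel) ?_ ?_
  · have h : (T5.all fun t => ckS 5 X5 t) = true := by decide +kernel
    exact List.all_eq_true.1 h
  · intro m
    cases m <;> decide +kernel

theorem nosp_he_3 {G : Type*} [Group G] [Finite G] (h : Cfsg.Spor.IsoHe G) : NoSP 3 G := by
  obtain ⟨e⟩ := h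
  have := finite_he
  have : Fact (Nat.Prime 3) := ⟨by norm_num⟩
  exact noSP_he_three.congr e

theorem nosp_he_5 {G : Type*} [Group G] [Finite G] (h : Cfsg.Spor.IsoHe G) : NoSP 5 G := by
  obtain ⟨e⟩ := h
  have := finite_he
  have : Fact (Nat.Prime 5) := ⟨by norm_num⟩
  exact noSP_he_five.congr e

end Cfsg.Agent.H393.Str.He
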