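import Cfsg.Agent.H52.StrLink

/-!
# Strongly `p`-embedded subgroups: the linking criterion for elements (helper393)
-/

set_option autoImplicit false

namespace Cfsg.Agent.H393.Str

open Cfsg Subgroup Cfsg.Agent.H998.StrP Cfsg.Agent.H52.StrLink

/-- If a simple group is generated by elements `g` such that `x` and `g x g⁻¹` commute with a common element of
order `p`, then it has no strongly `p`-embedded subgroup. -/
theorem noSP_of_two {G : Type*} [Group G] [Finite G] [IsSimpleGroup G] {p : ℕ} [hp : Fact p.Prime] {x : G}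
    (hx : orderOf x = p) {S : Set G}
    (hS : ∀ g ∈ S, ∃ y : G, orderOf y = p ∧ Commute x y ∧ Commute y (g * x * g⁻¹)) (hgen : closure S = ⊤) :
    NoSP p G := by
  have hel : ∀ y : G, orderOf y = p → El (⊤ : Subgroup G) p y := by
    intro y hy
    refine ⟨mem_top y, ?_, 1, ?_⟩
    · rintro rfl
      rw [orderOf_one] at hy
      exact hp.out.one_lt.ne hy
    · rw [pow_one, ← hy, pow_orderOf_eq_one]
  have : IsSimpleGroup ↥(⊤ : Subgroup G) :=
    IsSimpleGroup.isSimpleGroup_of_surjective (topEquiv (G := G)).symm.toMonoidHom (topEquiv (G := G)).symm.surjective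
  have h := noSP_of_link (N := (⊤ : Subgroup G)) (hel x hx) (by
    refine top_le_iff.1 (hgen.ge.trans ((closure_le _).2 ?_))
    intro g hg
    obtain ⟨y, hy, h1, h2⟩ := hS g hg
    have h3 : orderOf (g * x * g⁻¹) = p := by
      rw [← hx]
      exact (MulAut.conj g).orderOf_eq x
    exact (Lk.single (hel x hx) (hel y hy) h1).trans (Lk.single (hel y hy) (hel _ h3) h2))
  exact h.congr topEquiv.symm

end Cfsg.Agent.H393.Str
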