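import Cfsg.Agent.H408.SporSelf
import Cfsg.Agent.H547.PP.Engine

/-!
# S3608: the rows `J2`, `He`, `Fi22` (helper393)

For these groups helper408's numeric check fails for one or two primes; helper547's stronger engine `no_idx` settles
the indices `p ^ k`, `k ≥ 2`, and helper660's theorem on subgroups of prime index the case `k = 1`.
-/

set_option autoImplicit false

namespace Cfsg.Agent.H393.Str.PPow

open Subgroup Cfsg Cfsg.Agent.H408.Idx8 Cfsg.Agent.H408.SporEng Cfsg.Agent.OrdDiv Cfsg.Agent.H408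

universe u

/-- subgroups of prime index of sporadic groups -/
theorem idx_one {G : Type u} [Group G] [Finite G] [IsSimpleGroup G] (hna : ¬ IsMulCommutative G)
    (h : IsSporadicGroup G) {p : ℕ} (hp : p.Prime) {H : Subgroup G} (hH : H.index = p ^ 1) : Idx8.Out G p 1 := by
  rw [pow_one] at hH
  rcases Cfsg.Agent.H660.SporPrimeIndex.sporadic_prime_index hna h H p hp hH with ⟨rfl, h2⟩ | ⟨rfl, h2⟩
  · exact Or.inr (Or.inr (Or.inl ⟨by norm_num, Or.inr (Cfsg.Agent.OddHalf.D8.M11.isM11 h2)⟩))
  · exact Or.inr (Or.inr (Or.inr (Or.inl ⟨by norm_num, Cfsg.Agent.H417.RecogMathieu.isM23 h2⟩)))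

/-- a row, with the strong engine -/
theorem row2 (T : OrderTable.{0})
    (hS : ∀ (X : Type) [Group X] [Finite X] [IsSimpleGroup X], IsKnownSimple' X) {M : Type} [Group M]
    {n r : ℕ} (hn : Nat.card M = n) {l : List (ℕ × ℕ)} (hv : valid l n = true) (hnp : ¬ n.Prime)
    (hr : r.Prime) (hr2 : r ≠ 2) (hsq : ¬ r * r ∣ n) (hc : Self r M) {O : List ℕ}
    (hO : H547.PP.chkO n l r O = true) (hchk : H547.PP.chkAll n l r O = true)
    {G : Type u} [Group G] [Finite G] (hs : IsSimpleGroup G) (hsp : IsSporadicGroup G) (e : G ≃* M)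
    {p : ℕ} (hp : p.Prime) : Idx G p := by
  have hfin : Finite M := Finite.of_equiv _ e.toEquiv
  have hGn : Nat.card G = n := by rw [← hn]; exact Nat.card_congr e.toEquiv
  intro H k hk hH
  rcases Nat.lt_or_ge 1 k with hk2 | hk1
  · exfalso
    obtain ⟨x, hx, hcx⟩ := hc
    have h1 : (H.map e.toMonoidHom).index = p ^ k := by
      rw [← hH, Subgroup.index_map_of_bijective e.bijective]
    exact H547.PP.no_idx T hS hr hr2 hn hsq hv hx hcx hO hchk hp hk2 _ h1
  · have hk' : k = 1 := by omega
    subst hk'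
    exact idx_one (not_comm (by rw [hGn]; exact hnp)) hsp hp hH

section

variable (T : OrderTable.{0}) (hS : ∀ (X : Type) [Group X] [Finite X] [IsSimpleGroup X], IsKnownSimple' X)
  {G : Type u} [Group G] [Finite G] (hs : IsSimpleGroup G) {p : ℕ} (hp : p.Prime)
include T hS hs hp

theorem j2 (h : Spor.IsoJ2 G) : Idx G p :=
  h.elim fun e => row2 T hS (NotCT.Orders.j2 ⟨MulEquiv.refl _⟩) (l := [(2, 7), (3, 3), (5, 2), (7, 1)])
    (by decide +kernel) (by norm_num) (by norm_num) (by norm_num) (by norm_num) SporSelf.j2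
    (O := [2520, 20160, 168, 504, 6048, 604800]) (by decide +kernel) (by decide +kernel) hs
    (by have h : Spor.IsoJ2 G := ⟨e⟩; unfold IsSporadicGroup; tauto) e hp

theorem he (h : Spor.IsoHe G) : Idx G p :=
  h.elim fun e => row2 T hS (NotCT.Orders.he ⟨MulEquiv.refl _⟩) (l := [(2, 10), (3, 3), (5, 2), (7, 3), (17, 1)])
    (by decide +kernel) (by norm_num) (by norm_num) (by norm_num) (by norm_num) SporSelf.he
    (O := [4080, 2448, 979200, 4030387200]) (by decide +kernel) (by decide +kernel) hs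
    (by have h : Spor.IsoHe G := ⟨e⟩; unfold IsSporadicGroup; tauto) e hp

theorem fi22 (h : Spor.IsoFi22 G) : Idx G p :=
  h.elim fun e => row2 T hS (NotCT.Orders.fi22 ⟨MulEquiv.refl _⟩)
    (l := [(2, 17), (3, 9), (5, 2), (7, 1), (11, 1), (13, 1)])
    (by decide +kernel) (by norm_num) (by norm_num) (by norm_num) (by norm_num) SporSelf.fi22
    (O := [3113510400, 262080, 5616, 6065280, 42456960, 9828, 7800, 1092, 4585351680, 62400, 251596800, 4245696, 29120,
      17971200, 448345497600, 64561751654400]) (by decide +kernel) (by decide +kernel) hs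
    (by have h : Spor.IsoFi22 G := ⟨e⟩; unfold IsSporadicGroup; tauto) e hp

end

end Cfsg.Agent.H393.Str.PPow
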